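import Cfsg.Agent.H90.SiftMain
import Cfsg.Agent.H90.SiftHe.Small
import Cfsg.Agent.H90.SiftHe.N0
import Cfsg.Agent.H90.SiftHe.A0
import Cfsg.Agent.H90.SiftHe.B0
import Cfsg.Agent.H90.SiftHe.SA0
import Cfsg.Agent.H90.SiftHe.SB0
import Cfsg.Agent.H90.SiftHe.SC0

/-! Assembly (generated, owner: helper90). -/

set_option autoImplicit false
set_option maxRecDepth 1000000

namespace Cfsg.Agent.H90.SiftHe

open Cfsg.Agent.CosetEnum Cfsg.Agent.H90.Sift

open Subgroup

theorem ncov : Cov (newB P Cfsg.Agent.CosetEnum.HeT10.P ws) 0 P.m :=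
  (Cov.of n0 rfl)

section

variable {G : Type*} [Group G] [MulAction G (Fin P.m)] {g : ℕ → G} (h : LettersOK P g)

include h

theorem levA0 : LevC P (closure ({g 1, g 3, g 5} : Set G)) [] 114 mA0 2058 0 2058 :=
    (show LevC P (closure ({g 1, g 3, g 5} : Set G)) [] 114 mA0 _ _ _ from (lvS_sound h.ra h.mem (b := 114) (show 114 < 2058 by norm_num) a0_0))

theorem levA1 : LevC P (closure ({g 1, g 3, g 5} : Set G)) [114] 411 mA1 136 0 2058 :=
    (show LevC P (closure ({g 1, g 3, g 5} : Set G)) [114] 411 mA1 _ _ _ from (lvS_sound h.ra h.mem (b := 411) (show 411 < 2058 by norm_num) a1_0))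

theorem levA2 : LevC P (closure ({g 1, g 3, g 5} : Set G)) [411, 114] 416 mA2 36 0 2058 :=
    (show LevC P (closure ({g 1, g 3, g 5} : Set G)) [411, 114] 416 mA2 _ _ _ from (lvS_sound h.ra h.mem (b := 416) (show 416 < 2058 by norm_num) a2_0))

theorem levA3 : LevC P (closure ({g 1, g 3, g 5} : Set G)) [416, 411, 114] 873 mA3 25 0 2058 :=
    (show LevC P (closure ({g 1, g 3, g 5} : Set G)) [416, 411, 114] 873 mA3 _ _ _ from (lvS_sound h.ra h.mem (b := 873) (show 873 < 2058 by norm_num) a3_0))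

theorem levA4 : LevC P (closure ({g 1, g 3, g 5} : Set G)) [873, 416, 411, 114] 987 mA4 8 0 2058 :=
    (show LevC P (closure ({g 1, g 3, g 5} : Set G)) [873, 416, 411, 114] 987 mA4 _ _ _ from (lvS_sound h.ra h.mem (b := 987) (show 987 < 2058 by norm_num) a4_0))

theorem levA5 : LevC P (closure ({g 1, g 3, g 5} : Set G)) [987, 873, 416, 411, 114] 641 mA5 2 0 2058 :=
    (show LevC P (closure ({g 1, g 3, g 5} : Set G)) [987, 873, 416, 411, 114] 641 mA5 _ _ _ from (lvS_sound h.ra h.mem (b := 641) (show 641 < 2058 by norm_num) a5_0))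

theorem chainA : ChP P (closure ({g 1, g 3, g 5} : Set G)) lA [] :=
  ⟨(show 114 < 2058 by norm_num), (levA0 h).1, ⟨(show 411 < 2058 by norm_num), (levA1 h).1, ⟨(show 416 < 2058 by norm_num), (levA2 h).1, ⟨(show 873 < 2058 by norm_num), (levA3 h).1, ⟨(show 987 < 2058 by norm_num), (levA4 h).1, ⟨(show 641 < 2058 by norm_num), (levA5 h).1, trivial⟩⟩⟩⟩⟩⟩

theorem levB0 : LevC P (closure ({g 1, g 3, g 5} : Set G)) [] 1902 mB0 2058 0 2058 :=
    (show LevC P (closure ({g 1, g 3, g 5} : Set G)) [] 1902 mB0 _ _ _ from (lvS_sound h.ra h.mem (b := 1902) (show 1902 < 2058 by norm_num) b0_0))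

theorem levB1 : LevC P (closure ({g 1, g 3, g 5} : Set G)) [1902] 1806 mB1 425 0 2058 :=
    (show LevC P (closure ({g 1, g 3, g 5} : Set G)) [1902] 1806 mB1 _ _ _ from (lvS_sound h.ra h.mem (b := 1806) (show 1806 < 2058 by norm_num) b1_0))

theorem levB2 : LevC P (closure ({g 1, g 3, g 5} : Set G)) [1806, 1902] 1858 mB2 256 0 2058 :=
    (show LevC P (closure ({g 1, g 3, g 5} : Set G)) [1806, 1902] 1858 mB2 _ _ _ from (lvS_sound h.ra h.mem (b := 1858) (show 1858 < 2058 by norm_num) b2_0))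

theorem levB3 : LevC P (closure ({g 1, g 3, g 5} : Set G)) [1858, 1806, 1902] 1839 mB3 9 0 2058 :=
    (show LevC P (closure ({g 1, g 3, g 5} : Set G)) [1858, 1806, 1902] 1839 mB3 _ _ _ from (lvS_sound h.ra h.mem (b := 1839) (show 1839 < 2058 by norm_num) b3_0))

theorem levB4 : LevC P (closure ({g 1, g 3, g 5} : Set G)) [1839, 1858, 1806, 1902] 1820 mB4 2 0 2058 :=
    (show LevC P (closure ({g 1, g 3, g 5} : Set G)) [1839, 1858, 1806, 1902] 1820 mB4 _ _ _ from (lvS_sound h.ra h.mem (b := 1820) (show 1820 < 2058 by norm_num) b4_0))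

theorem chainB : ChP P (closure ({g 1, g 3, g 5} : Set G)) lB [] :=
  ⟨(show 1902 < 2058 by norm_num), (levB0 h).1, ⟨(show 1806 < 2058 by norm_num), (levB1 h).1, ⟨(show 1858 < 2058 by norm_num), (levB2 h).1, ⟨(show 1839 < 2058 by norm_num), (levB3 h).1, ⟨(show 1820 < 2058 by norm_num), (levB4 h).1, trivial⟩⟩⟩⟩⟩

end

theorem basedA : Based P 1 lA := ⟨Nat.eq_of_beq_eq_true (by decide +kernel : Nat.beq (run P 1 114) 411 = true), ⟨Nat.eq_of_beq_eq_true (by decide +kernel : Nat.beq (run P 1 411) 416 = true), ⟨Nat.eq_of_beq_eq_true (by decide +kernel : Nat.beq (run P 1 416) 873 = true), ⟨Nat.eq_of_beq_eq_true (by decide +kernel : Nat.beq (run P 1 873) 987 = true), ⟨Nat.eq_of_beq_eq_true (by decide +kernel : Nat.beq (run P 1 987) 641 = true), trivial⟩⟩⟩⟩⟩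

theorem ltA : ∀ t ∈ lA, t.1 < P.m := by decide +kernel

theorem basedB : Based P 3 lB := ⟨Nat.eq_of_beq_eq_true (by decide +kernel : Nat.beq (run P 3 1902) 1806 = true), ⟨Nat.eq_of_beq_eq_true (by decide +kernel : Nat.beq (run P 3 1806) 1858 = true), ⟨Nat.eq_of_beq_eq_true (by decide +kernel : Nat.beq (run P 3 1858) 1839 = true), ⟨Nat.eq_of_beq_eq_true (by decide +kernel : Nat.beq (run P 3 1839) 1820 = true), trivial⟩⟩⟩⟩

theorem ltB : ∀ t ∈ lB, t.1 < P.m := by decide +kernel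

section

variable {G : Type*} [Group G] [MulAction G (Fin P.m)] {g : ℕ → G} (h : RA P g)

include h

theorem covA (hx : ExP G P lA []) : CovP P (elt g 1) (elt g 0x1) {z | ∃ w ∈ [0], z = elt g w} 114 0 P.m :=
  (CovP.of h hx ltA basedA (show pts P 0x1 _ _ [0] (lms lA) _ _ _ = true from sA0) rfl (by decide +kernel))

theorem covB (hx : ExP G P lB []) : CovP P (elt g 3) (elt g 0xdb) {z | ∃ w ∈ (gs.map fun t => t.1), z = elt g w} 1902 0 P.m :=
  (CovP.of h hx ltB basedB (show pts P 0xdb _ _ (gs.map fun t => t.1) (lms lB) _ _ _ = true from sB0) rfl (by decide +kernel))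

theorem covC (hx : ExP G P lA []) : CovP P (elt g 1) (elt g 0x49) {z | ∃ w ∈ (gc.map fun t => t.1), z = elt g w} 114 0 P.m :=
  (CovP.of h hx ltA basedA (show pts P 0x49 _ _ (gc.map fun t => t.1) (lms lA) _ _ _ = true from sC0) rfl (by decide +kernel))

end


theorem hks : ∀ m < 17, m ≠ 0 → ∃ a : ℕ, (2 ^ a * m) % 17 = 1 ∨ (2 ^ a * m) % 17 = 3 := by
  have h : ∀ m < 17, m ≠ 0 → ∃ a < 17, (2 ^ a * m) % 17 = 1 ∨ (2 ^ a * m) % 17 = 3 := by decide +kernel
  intro m h1 h2
  obtain ⟨a, _, h3⟩ := h m h1 h2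
  exact ⟨a, h3⟩

theorem concl {G : Type} [Group G] [Finite G] {f : ℕ → G} (hN : Nat.card G = 4030387200) [MulAction G (Fin P.m)] (h : LettersOK P (newL f ws)) :
    Concl G (newL f ws 1) (newL f ws 3) (newL f ws 5) ((newL f ws 1) ^ 3) (elt (newL f ws) e2) (true = true) ∧
      closure ({newL f ws 1, newL f ws 3, newL f ws 5} : Set G) = ⊤ ∧ ExP G P lA [] ∧ ExP G P lB [] := by
  have cA := chainA h
  have cB := chainB h
  have hcA : Nat.card G ≤ (lA.map fun t => t.2.2).prod := by rw [hN]; decide +kernel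
  have hcB : Nat.card G ≤ (lB.map fun t => t.2.2).prod := by rw [hN]; decide +kernel
  have xA := cA.exact' hcA
  have xB := cB.exact' hcB
  have : Fact (Nat.Prime 17) := ⟨by norm_num⟩
  refine ⟨?_, cA.top hcA, xA, xB⟩
  exact sift_main h (p := 17) (by rw [hN]; decide +kernel) (hB := xB) (bA := 114) (bB := 1902) (by decide +kernel) (by decide +kernel)
    (fun i hi => covA h.ra xA i (Nat.zero_le _) hi) (fun i hi => covB h.ra xB i (Nat.zero_le _) hi)
    ⟨9, 15, by decide +kernel, by decide +kernel⟩ hks small (by norm_num) c1 c2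

end Cfsg.Agent.H90.SiftHe
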