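import Cfsg.Agent.CosetEnum.He.Simple
import Cfsg.Agent.H90.SiftHe.Chain

/-! The outer automorphism group (owner: helper90). -/

set_option autoImplicit false
set_option maxRecDepth 1000000

namespace Cfsg.Agent.H90.SiftHe

open Cfsg.Agent.CosetEnum Cfsg.Agent.CosetEnum.He Cfsg.Agent.H90.Sift

theorem tau : tauB P tL bs HeT10.iv HeT10.RL (List.range 11) wy 0x49 1 = true := by decide +kernel

theorem out_he : Nat.card (Cfsg.Out Cfsg.Spor.He) = 2 := by
  have hs : IsSimpleGroup Cfsg.Spor.He := simple_He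
  have hcard : Nat.card Cfsg.Spor.He = _ := card_He
  have hfin : Finite Cfsg.Spor.He := Nat.finite_of_card_ne_zero (by rw [hcard]; norm_num)
  obtain ⟨A, letsk, cw, h1, h2, hA, h3k, h4, h5, h6, h7⟩ := (LH).ex
  obtain ⟨A', hRA⟩ := new_action (P := P) (Q := Cfsg.Agent.CosetEnum.HeT10.P) rfl A hA (ws := ws) (by decide +kernel) (by decide +kernel)
    (by decide +kernel) ncov
  have h : LettersOK P (newL gH ws) := letters_ok hRA
  obtain ⟨hC, hS, xA, xB⟩ := concl hcard h
  obtain ⟨τ, hτ⟩ := exists_tau gH_univ h.ra xB (L := tL) rfl rfl (by decide +kernel) tau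
  refine hC.two hS τ ?_
  intro z
  have h8 := no_sol h.ra fil (b := 114) (by decide +kernel) (covC h.ra xA) z
  have h9 : elt (newL gH ws) 1 = newL gH ws 1 := elt_digit (by norm_num) (by norm_num)
  have h10 : newL gH ws 1 = (wy.map gH).prod := by simp [newL, ws]
  rw [h9] at h8
  rw [show τ (newL gH ws 1) = elt (newL gH ws) 0x49 by rw [h10]; exact hτ]
  exact h8

end Cfsg.Agent.H90.SiftHe
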